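import Mathlib.AlgebraicGeometry.Morphisms.Etale
import Mathlib.AlgebraicGeometry.Morphisms.QuasiFinite
import Mathlib.RingTheory.RingHom.StandardSmooth
import Mathlib.RingTheory.RingHom.LocallyStandardSmooth
import Mathlib.RingTheory.Smooth.Flat
import Mathlib.RingTheory.Artinian.Module
import Mathlib.RingTheory.Spectrum.Prime.RingHom

/-! A quasi-finite smooth morphism is etale. -/

universe u

open TensorProduct AlgebraicGeometry CategoryTheory

namespace Groth.Agent.UnramMisc

theorem dim_eq_zero_of_finite {K B : Type u} [Field K] [CommRing B] [Algebra K B] [Nontrivial B]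
    [Module.Finite K B] {n : ℕ} [Algebra.IsStandardSmoothOfRelativeDimension n K B] : n = 0 := by
  by_contra hn
  obtain ⟨g, hg⟩ := Algebra.IsStandardSmoothOfRelativeDimension.exists_etale_mvPolynomial (n := n) K B
  let R := MvPolynomial (Fin n) K
  let : Algebra R B := g.toRingHom.toAlgebra
  have : Algebra.Etale R B := hg
  have : Module.Flat R B := inferInstance
  have : IsArtinianRing B := IsArtinianRing.of_finite K B
  have hu : ∀ p : R, p ≠ 0 → IsUnit (g p) := fun p hp => by
    refine IsArtinianRing.isUnit_iff_mem_nonZeroDivisors.2 (mem_nonZeroDivisors_iff_right.2 fun b hb => ?_)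
    have h0 : IsSMulRegular R p := (IsRegular.of_ne_zero hp).left.isSMulRegular
    have h1 : IsSMulRegular B (algebraMap R B p) := h0.of_flat
    refine h1 ?_
    change g p * b = g p * 0
    rw [mul_zero, mul_comm]
    exact hb
  let i₀ : Fin n := ⟨0, Nat.pos_of_ne_zero hn⟩
  obtain ⟨p, hp, hp0⟩ := (IsIntegral.of_finite K (g (MvPolynomial.X i₀))).isAlgebraic
  have hne : Polynomial.aeval (MvPolynomial.X i₀ : R) p ≠ 0 := fun h =>
    hp ((transcendental_iff.1 (MvPolynomial.transcendental_X K i₀)) p h)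
  have := hu _ hne
  rw [← Polynomial.aeval_algHom_apply, hp0] at this
  exact not_isUnit_zero this

theorem etale_of_quasiFinite {A B : Type u} [CommRing A] [CommRing B] [Algebra A B]
    [Algebra.IsStandardSmooth A B] [Algebra.QuasiFinite A B] : Algebra.Etale A B := by
  obtain ⟨ι, σ, _, _, ⟨P⟩⟩ := ‹Algebra.IsStandardSmooth A B›.out
  have : Algebra.IsStandardSmoothOfRelativeDimension P.dimension A B :=
    ⟨ι, σ, inferInstance, inferInstance, P, rfl⟩
  rcases subsingleton_or_nontrivial B with hB | hB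
  · have : Algebra.Smooth A B := inferInstance
    exact ⟨(Algebra.FormallyEtale.iff_formallyUnramified_and_formallySmooth).2
      ⟨⟨inferInstance⟩, inferInstance⟩, inferInstance⟩
  · obtain ⟨m, hm⟩ := Ideal.exists_maximal B
    let p : PrimeSpectrum A := PrimeSpectrum.comap (algebraMap A B) ⟨m, hm.isPrime⟩
    have : Nontrivial (p.asIdeal.ResidueField ⊗[A] B) :=
      (PrimeSpectrum.nontrivial_iff_mem_rangeComap p).2 ⟨_, rfl⟩
    have : Module.Finite p.asIdeal.ResidueField (p.asIdeal.ResidueField ⊗[A] B) :=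
      Algebra.QuasiFinite.finite_fiber p.asIdeal
    have h0 : P.dimension = 0 :=
      dim_eq_zero_of_finite (K := p.asIdeal.ResidueField) (B := p.asIdeal.ResidueField ⊗[A] B)
    rw [Algebra.Etale.iff_isStandardSmoothOfRelativeDimension_zero, ← h0]
    infer_instance

theorem etale_of_smooth_of_locallyQuasiFinite {X Y : Scheme.{u}} (f : X ⟶ Y) [Smooth f]
    [LocallyQuasiFinite f] : Etale f := by
  rw [HasRingHomProperty.iff_exists_appLE (P := (@Etale : MorphismProperty Scheme.{u}))
    (fun R S T _ _ _ _ r _ g hg => RingHom.Etale.stableUnderComposition _ _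
      (RingHom.etale_algebraMap.2 (Algebra.Etale.of_isLocalizationAway r)) hg)]
  intro x
  obtain ⟨U, hU, V, hV, hx, e, hf⟩ := Smooth.exists_isStandardSmooth f x
  refine ⟨⟨U, hU⟩, ⟨V, hV⟩, hx, e, ?_⟩
  have hq := HasRingHomProperty.appLE (P := (@LocallyQuasiFinite : MorphismProperty Scheme.{u})) f
    ‹_› ⟨U, hU⟩ ⟨V, hV⟩ e
  let := (f.appLE U V e).hom.toAlgebra
  have : Algebra.IsStandardSmooth Γ(Y, U) Γ(X, V) := hf
  have : Algebra.QuasiFinite Γ(Y, U) Γ(X, V) := hq
  exact etale_of_quasiFinite (A := Γ(Y, U)) (B := Γ(X, V))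

end Groth.Agent.UnramMisc
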