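import Mathlib.AlgebraicGeometry.Morphisms.WeaklyEtale
import Mathlib.AlgebraicGeometry.Morphisms.Etale
import Mathlib.AlgebraicGeometry.Morphisms.FormallyUnramified
import Mathlib.RingTheory.Unramified.Field
import Mathlib.FieldTheory.Minpoly.Field
import Mathlib.FieldTheory.IntermediateField.Adjoin.Basic
import Mathlib.RingTheory.Artinian.Module
import Mathlib.RingTheory.SimpleModule.Basic
import Groth.Agent.WEtLib.Basic

/-! Weakly étale morphisms are formally unramified. -/

universe u

open TensorProduct AlgebraicGeometry CategoryTheory Limits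

namespace Groth.Agent.UnramMisc

theorem formallyUnramified_of_isIdempotentElem {A B : Type u} [CommRing A] [CommRing B] [Algebra A B]
    (h : IsIdempotentElem (KaehlerDifferential.ideal A B)) : Algebra.FormallyUnramified A B :=
  ⟨(Ideal.cotangent_subsingleton_iff _).2 h⟩

theorem formallyUnramified_of_weaklyEtale {A B : Type u} [CommRing A] [CommRing B] [Algebra A B]
    [Algebra.WeaklyEtale A B] : Algebra.FormallyUnramified A B := by
  have := WEtLib.diag_pure (A := A) (B := B)
  exact formallyUnramified_of_isIdempotentElem (Ideal.isIdempotentElem_of_pure (WEtLib.diag A B))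

theorem formallyUnramified_of_flat {X Y : Scheme.{u}} (f : X ⟶ Y) [WeaklyEtale f] :
    FormallyUnramified f := by
  refine ⟨fun {U} hU {V} hV e => ?_⟩
  have h1 : WeaklyEtale (Spec.map (f.appLE U V e) ≫ hU.fromSpec) := by
    rw [IsAffineOpen.SpecMap_appLE_fromSpec f hU hV e]
    infer_instance
  have h2 : WeaklyEtale (Spec.map (f.appLE U V e)) := WeaklyEtale.of_comp _ hU.fromSpec
  algebraize [(f.appLE U V e).hom]
  have hflat : Module.Flat Γ(Y, U) Γ(X, V) :=
    HasRingHomProperty.Spec_iff (P := (@Flat : MorphismProperty Scheme.{u})).1 h2.flat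
  have hdiag : Flat (Spec.map (CommRingCat.ofHom
      (Algebra.TensorProduct.lmul' Γ(Y, U) (S := Γ(X, V))).toRingHom)) := by
    rw [← Category.comp_id (Spec.map (CommRingCat.ofHom _)), ← (pullbackSpecIso Γ(Y, U) Γ(X, V) Γ(X, V)).inv_hom_id,
      ← Category.assoc, ← AlgebraicGeometry.diagonal_SpecMap Γ(Y, U) Γ(X, V)]
    exact @Flat.comp _ _ _ _ _ h2.flat_diagonal (inferInstance)
  have hlm := HasRingHomProperty.Spec_iff (P := (@Flat : MorphismProperty Scheme.{u})).1 hdiag
  have : Algebra.WeaklyEtale Γ(Y, U) Γ(X, V) := ⟨hflat, hlm⟩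
  exact formallyUnramified_of_weaklyEtale (A := Γ(Y, U)) (B := Γ(X, V))

theorem isSeparable_of_weaklyEtale {K L : Type u} [Field K] [Field L] [Algebra K L]
    [Algebra.WeaklyEtale K L] (halg : ∀ x : L, IsAlgebraic K x) : Algebra.IsSeparable K L := by
  refine ⟨fun x => ?_⟩
  have hx : IsIntegral K x := (halg x).isIntegral
  let F := IntermediateField.adjoin K {x}
  have : FiniteDimensional K F := IntermediateField.adjoin.finiteDimensional hx
  let inc : F ⊗[K] F →ₐ[K] L ⊗[K] L := Algebra.TensorProduct.map F.val F.val
  have hinj : Function.Injective inc := by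
    have h : (inc : F ⊗[K] F → L ⊗[K] L) = TensorProduct.map F.val.toLinearMap F.val.toLinearMap := rfl
    rw [h]
    exact TensorProduct.map_injective_of_flat_flat _ _ F.val.injective F.val.injective
  have : IsReduced (L ⊗[K] L) := WEtLib.isReduced_of_forall_exists fun a => WEtLib.exists_mul_eq (K := L) a
  have : IsReduced (F ⊗[K] F) := isReduced_of_injective inc.toRingHom hinj
  have : Module.Finite K (F ⊗[K] F) := inferInstance
  have : IsArtinianRing (F ⊗[K] F) := IsArtinianRing.of_finite K (F ⊗[K] F)
  have : IsSemisimpleRing (F ⊗[K] F) := IsArtinianRing.isSemisimpleRing_of_isReduced (F ⊗[K] F)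
  have : Algebra.FormallyUnramified K F := by
    refine formallyUnramified_of_isIdempotentElem ?_
    obtain ⟨e, he, hI⟩ := IsSemisimpleRing.ideal_eq_span_idempotent (KaehlerDifferential.ideal K F)
    rw [hI]
    change Ideal.span {e} * Ideal.span {e} = Ideal.span {e}
    rw [Ideal.span_singleton_mul_span_singleton, he.eq]
  have : Algebra.IsSeparable K F := Algebra.FormallyUnramified.isSeparable K F
  have := Algebra.IsSeparable.isSeparable K (IntermediateField.AdjoinSimple.gen K x)
  rwa [IsSeparable, IntermediateField.minpoly_gen] at this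

end Groth.Agent.UnramMisc
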